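import Mathlib
import Groth.Prelude.Def_W4c2quivmodsheafKron

set_option autoImplicit false
set_option linter.style.haveILetI false
set_option linter.unusedSectionVars false
universe u v w

namespace Groth.Agent.Kron8

open KronMod Module Submodule

variable {K : Type u} [Field K] {V : Type v} {W : Type w} [AddCommGroup V] [Module K V] [FiniteDimensional K V]
  [AddCommGroup W] [Module K W] [FiniteDimensional K W] {n : ℕ}

/-- The sum map of a Kronecker module. -/
noncomputable def sumMap (f : Fin n → (V →ₗ[K] W)) : (Fin n → V) →ₗ[K] W := LinearMap.lsum K (fun _ => V) K f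

theorem sumMap_apply (f : Fin n → (V →ₗ[K] W)) (v : Fin n → V) : sumMap f v = ∑ j, f j (v j) := by simp [sumMap]

theorem finrank_pi_const (X : Type*) [AddCommGroup X] [Module K X] [FiniteDimensional K X] :
    finrank K (Fin n → X) = n * finrank K X := by simp [Module.finrank_pi_fintype]

theorem subrep_sum (f : Fin n → (V →ₗ[K] W)) : IsSubrep f ⊤ (LinearMap.range (sumMap f)) := fun j => by
  rintro _ ⟨x, -, rfl⟩
  refine ⟨Pi.single j x, ?_⟩
  rw [sumMap_apply, Finset.sum_eq_single j (fun i _ hi => by simp [hi]) (by simp)]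
  simp

theorem not_ss_left (f : Fin n → (V →ₗ[K] W)) (hV : 0 < finrank K V)
    (h : n * finrank K V < finrank K W) : ¬ IsSemistable f := by
  intro hf
  have h1 : finrank K (LinearMap.range (sumMap f)) ≤ n * finrank K V :=
    (LinearMap.finrank_range_le _).trans (finrank_pi_const V).le
  have h2 := hf.2 ⊤ (LinearMap.range (sumMap f)) (subrep_sum f)
    (fun h0 => by have := congrArg (fun S : Submodule K V => finrank K S) h0.1; simp at this; omega)
    (fun h0 => by rw [h0.2, finrank_top] at h1; omega)
  rw [finrank_top, mul_comm] at h2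
  have := Nat.le_of_mul_le_mul_left h2 hV
  omega

theorem not_ss_right (f : Fin n → (V →ₗ[K] W)) (hW : 0 < finrank K W)
    (h : n * finrank K W < finrank K V) : ¬ IsSemistable f := by
  intro hf
  have h1 := LinearMap.finrank_range_add_finrank_ker (LinearMap.pi f)
  have h3 : finrank K (LinearMap.range (LinearMap.pi f)) ≤ n * finrank K W :=
    (Submodule.finrank_le _).trans (finrank_pi_const W).le
  have h2 := hf.2 (LinearMap.ker (LinearMap.pi f)) ⊥
    (fun j => by rintro _ ⟨x, hx, rfl⟩; simpa using congrFun (LinearMap.mem_ker.mp hx) j)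
    (fun h0 => by rw [h0.1, finrank_bot] at h1; omega)
    (fun h0 => by have := congrArg (fun S : Submodule K W => finrank K S) h0.2; simp at this; omega)
  rw [finrank_bot, Nat.mul_zero, Nat.le_zero, Nat.mul_eq_zero] at h2
  omega

theorem ss_iff_sum (f : Fin n → (V →ₗ[K] W)) (hV : 0 < finrank K V) (hW : finrank K W = n * finrank K V) :
    IsSemistable f ↔ Function.Bijective (sumMap f) := by
  have hdim : finrank K (Fin n → V) = finrank K W := (finrank_pi_const V).trans hW.symm
  constructor
  · intro hf
    have hs : Function.Surjective (sumMap f) := by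
      rw [← LinearMap.range_eq_top]
      by_contra hne
      have h2 := hf.2 ⊤ _ (subrep_sum f)
        (fun h0 => by have := congrArg (fun S : Submodule K V => finrank K S) h0.1; simp at this; omega) (fun h0 => hne h0.2)
      rw [finrank_top, mul_comm] at h2
      have h3 := Submodule.finrank_lt hne
      have := Nat.le_of_mul_le_mul_left h2 hV
      omega
    exact ⟨(LinearMap.injective_iff_surjective_of_finrank_eq_finrank hdim).mpr hs, hs⟩
  · intro hb
    refine ⟨by omega, fun V' W' hsub _ _ => ?_⟩
    let φ : (Fin n → V') →ₗ[K] W' := (sumMap f ∘ₗ (LinearMap.pi fun j => V'.subtype ∘ₗ LinearMap.proj j)).codRestrict W'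
      fun v => by
        rw [LinearMap.comp_apply, sumMap_apply]
        exact Submodule.sum_mem _ fun j _ => hsub j ⟨_, (v j).2, rfl⟩
    have hφ : Function.Injective φ := fun v v' h => by
      have := hb.1 (congrArg Subtype.val h)
      funext j
      exact Subtype.ext (congrFun this j)
    have h1 := LinearMap.finrank_le_finrank_of_injective hφ
    rw [finrank_pi_const] at h1
    calc finrank K W * finrank K V' = finrank K V * (n * finrank K V') := by rw [hW]; ring
      _ ≤ _ := Nat.mul_le_mul_left _ h1

theorem stable_iff_sum (f : Fin n → (V →ₗ[K] W)) (hV : 0 < finrank K V) (hW : finrank K W = n * finrank K V) :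
    IsStable f ↔ IsSemistable f ∧ finrank K V = 1 := by
  constructor
  · intro hf
    refine ⟨⟨hf.1, fun V' W' a b c => (hf.2 V' W' a b c).le⟩, ?_⟩
    by_contra hne
    haveI : Nontrivial V := Module.finrank_pos_iff.mp hV
    obtain ⟨v, hv⟩ := exists_ne (0 : V)
    let W' : Submodule K W := span K (Set.range fun j => f j v)
    have hW' : finrank K W' ≤ n := (finrank_range_le_card fun j => f j v).trans (by simp)
    have h1 : finrank K (K ∙ v) = 1 := finrank_span_singleton hv
    have h2 := hf.2 (K ∙ v) W'
      (fun j => by rw [Submodule.map_span, Set.image_singleton]; exact span_mono (by simp))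
      (fun h0 => by rw [h0.1, finrank_bot] at h1; omega)
      (fun h0 => by rw [h0.1, finrank_top] at h1; exact hne h1)
    rw [h1, hW, mul_one, mul_comm n] at h2
    have := Nat.lt_of_mul_lt_mul_left h2
    omega
  · rintro ⟨hf, h1⟩
    have hb := (ss_iff_sum f hV hW).mp hf
    refine ⟨hf.1, fun V' W' hsub hbot htop => ?_⟩
    by_cases hV' : V' = ⊥
    · subst hV'
      have : W' ≠ ⊥ := fun h0 => hbot ⟨rfl, h0⟩
      have := Submodule.one_le_finrank_iff.mpr this
      simp [h1]; omega
    · have hV't : V' = ⊤ := Submodule.eq_top_of_finrank_eq (le_antisymm (Submodule.finrank_le _) (by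
        have := Submodule.one_le_finrank_iff.mpr hV'; omega))
      subst hV't
      refine absurd ⟨rfl, eq_top_iff.mpr fun w _ => ?_⟩ htop
      obtain ⟨v, rfl⟩ := hb.2 w
      rw [sumMap_apply]
      exact Submodule.sum_mem _ fun j _ => hsub j ⟨_, trivial, rfl⟩

theorem ss_iff_pi (f : Fin n → (V →ₗ[K] W)) (hW : 0 < finrank K W) (hV : finrank K V = n * finrank K W) :
    IsSemistable f ↔ Function.Bijective (LinearMap.pi f) := by
  have hdim : finrank K V = finrank K (Fin n → W) := hV.trans (finrank_pi_const W).symm
  constructor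
  · intro hf
    have hi : Function.Injective (LinearMap.pi f) := by
      rw [← LinearMap.ker_eq_bot]
      by_contra hne
      have h2 := hf.2 (LinearMap.ker (LinearMap.pi f)) ⊥
        (fun j => by rintro _ ⟨x, hx, rfl⟩; simpa using congrFun (LinearMap.mem_ker.mp hx) j)
        (fun h0 => hne h0.1) (fun h0 => by have := congrArg (fun S : Submodule K W => finrank K S) h0.2; simp at this; omega)
      rw [finrank_bot, Nat.mul_zero, Nat.le_zero, Nat.mul_eq_zero] at h2
      have := Submodule.one_le_finrank_iff.mpr hne
      omega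
    exact ⟨hi, (LinearMap.injective_iff_surjective_of_finrank_eq_finrank hdim).mp hi⟩
  · intro hb
    refine ⟨by omega, fun V' W' hsub _ _ => ?_⟩
    let φ : V' →ₗ[K] (Fin n → W') := LinearMap.pi fun j =>
      (f j ∘ₗ V'.subtype).codRestrict W' fun v => hsub j ⟨_, v.2, rfl⟩
    have hφ : Function.Injective φ := fun v v' h =>
      Subtype.ext (hb.1 (funext fun j => congrArg Subtype.val (congrFun h j)))
    have h1 := LinearMap.finrank_le_finrank_of_injective hφ
    rw [finrank_pi_const] at h1
    calc finrank K W * finrank K V' ≤ finrank K W * (n * finrank K W') := Nat.mul_le_mul_left _ h1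
      _ = _ := by rw [hV]; ring

theorem stable_iff_pi (f : Fin n → (V →ₗ[K] W)) (hW : 0 < finrank K W) (hV : finrank K V = n * finrank K W) :
    IsStable f ↔ IsSemistable f ∧ finrank K W = 1 := by
  constructor
  · intro hf
    refine ⟨⟨hf.1, fun V' W' a b c => (hf.2 V' W' a b c).le⟩, ?_⟩
    by_contra hne
    have hb := (ss_iff_pi f hW hV).mp ⟨hf.1, fun V' W' a b c => (hf.2 V' W' a b c).le⟩
    haveI : Nontrivial W := Module.finrank_pos_iff.mp hW
    obtain ⟨w, hw⟩ := exists_ne (0 : W)
    let W' := K ∙ w
    let V' : Submodule K V := ⨅ j, W'.comap (f j)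
    let φ : (Fin n → W') →ₗ[K] V' := ((LinearEquiv.ofBijective (LinearMap.pi f) hb).symm.toLinearMap ∘ₗ
      LinearMap.pi fun j => W'.subtype ∘ₗ LinearMap.proj j).codRestrict V' fun y => by
        rw [Submodule.mem_iInf]
        intro j
        have := congrFun ((LinearEquiv.ofBijective (LinearMap.pi f) hb).apply_symm_apply fun i => (y i : W)) j
        show f j ((LinearEquiv.ofBijective (LinearMap.pi f) hb).symm fun i => (y i : W)) ∈ W'
        rw [show f j ((LinearEquiv.ofBijective (LinearMap.pi f) hb).symm fun i => (y i : W)) = (y j : W) from this]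
        exact (y j).2
    have hφ : Function.Injective φ := fun v v' h => funext fun j => Subtype.ext (congrFun
      ((LinearEquiv.ofBijective (LinearMap.pi f) hb).symm.injective (congrArg Subtype.val h)) j)
    have h1 := LinearMap.finrank_le_finrank_of_injective hφ
    have hw1 : finrank K W' = 1 := finrank_span_singleton hw
    rw [finrank_pi_const, hw1, mul_one] at h1
    have h2 := hf.2 V' W' (fun j => Submodule.map_le_iff_le_comap.mpr (iInf_le _ j))
      (fun h0 => by rw [h0.2, finrank_bot] at hw1; omega)
      (fun h0 => by rw [h0.2, finrank_top] at hw1; exact hne hw1)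
    rw [hw1, mul_one, hV, mul_comm n] at h2
    have := Nat.lt_of_mul_lt_mul_left h2
    omega
  · rintro ⟨hf, h1⟩
    have hb := (ss_iff_pi f hW hV).mp hf
    refine ⟨hf.1, fun V' W' hsub hbot htop => ?_⟩
    by_cases hW' : W' = ⊥
    · subst hW'
      refine absurd ⟨eq_bot_iff.mpr fun v hv => ?_, rfl⟩ hbot
      exact (Submodule.mem_bot K).mpr <| hb.1 (funext fun j => by
        simpa using (hsub j ⟨v, hv, rfl⟩ : f j v ∈ (⊥ : Submodule K W)))
    · have hW't : W' = ⊤ := Submodule.eq_top_of_finrank_eq (le_antisymm (Submodule.finrank_le _) (by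
        have := Submodule.one_le_finrank_iff.mpr hW'; omega))
      have hV't : V' ≠ ⊤ := fun h0 => htop ⟨h0, hW't⟩
      rw [hW't, finrank_top, h1, one_mul, mul_one]
      exact Submodule.finrank_lt hV't

theorem exists_sum (hV : 0 < finrank K V) (hW : finrank K W = n * finrank K V) :
    (∃ f : Fin n → (V →ₗ[K] W), IsSemistable f) ∧
    ∀ f f' : Fin n → (V →ₗ[K] W), IsSemistable f → IsSemistable f' → AreIso f f' := by
  classical
  constructor
  · let e : (Fin n → V) ≃ₗ[K] W := LinearEquiv.ofFinrankEq _ _ ((finrank_pi_const V).trans hW.symm)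
    refine ⟨fun j => e.toLinearMap ∘ₗ LinearMap.single K (fun _ => V) j, (ss_iff_sum _ hV hW).mpr ?_⟩
    have : sumMap (fun j => e.toLinearMap ∘ₗ LinearMap.single K (fun _ => V) j) = e.toLinearMap := by
      refine LinearMap.ext fun v => ?_
      rw [sumMap_apply]
      simp only [LinearMap.comp_apply, ← map_sum]
      congr 1
      exact LinearMap.sum_single_apply (fun _ => V) v
    rw [this]
    exact e.bijective
  · intro f f' hf hf'
    let s := LinearEquiv.ofBijective _ ((ss_iff_sum f hV hW).mp hf)
    let s' := LinearEquiv.ofBijective _ ((ss_iff_sum f' hV hW).mp hf')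
    refine ⟨LinearEquiv.refl K V, s.symm.trans s', fun j => LinearMap.ext fun v => ?_⟩
    have key : ∀ g : Fin n → (V →ₗ[K] W), sumMap g (Pi.single j v) = g j v := fun g => by
      rw [sumMap_apply, Finset.sum_eq_single j (fun i _ hi => by simp [hi]) (by simp)]; simp
    show s' (s.symm (f j v)) = f' j v
    rw [← key f, show s.symm (sumMap f (Pi.single j v)) = Pi.single j v from s.symm_apply_apply _]
    exact key f'

theorem exists_pi (hW : 0 < finrank K W) (hV : finrank K V = n * finrank K W) :
    (∃ f : Fin n → (V →ₗ[K] W), IsSemistable f) ∧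
    ∀ f f' : Fin n → (V →ₗ[K] W), IsSemistable f → IsSemistable f' → AreIso f f' := by
  constructor
  · let e : V ≃ₗ[K] (Fin n → W) := LinearEquiv.ofFinrankEq _ _ (hV.trans (finrank_pi_const W).symm)
    exact ⟨fun j => (LinearMap.proj (R := K) (φ := fun _ : Fin n => W) j) ∘ₗ e.toLinearMap, (ss_iff_pi _ hW hV).mpr e.bijective⟩
  · intro f f' hf hf'
    let s := LinearEquiv.ofBijective _ ((ss_iff_pi f hW hV).mp hf)
    let s' := LinearEquiv.ofBijective _ ((ss_iff_pi f' hW hV).mp hf')
    refine ⟨s.trans s'.symm, LinearEquiv.refl K W, fun j => LinearMap.ext fun v => ?_⟩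
    exact (congrFun (s'.apply_symm_apply (s v)) j).symm

end Groth.Agent.Kron8
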