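import Groth.Agent.Kron8.Basic

set_option autoImplicit false
set_option linter.style.haveILetI false
set_option linter.unusedSectionVars false
universe u v w

namespace Groth.Agent.Kron8

open KronMod Module Submodule

variable {K : Type u} [Field K] {V : Type v} {W : Type w} [AddCommGroup V] [Module K V] [FiniteDimensional K V]
  [AddCommGroup W] [Module K W] [FiniteDimensional K W] {n : ℕ}

theorem one_one (f : Fin n → (V →ₗ[K] W)) (hV : finrank K V = 1) (hW : finrank K W = 1) :
    (IsSemistable f ↔ f ≠ 0) ∧ (IsStable f ↔ f ≠ 0) := by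
  have h1 : f ≠ 0 → IsStable f := by
    intro hf
    refine ⟨by omega, fun V' W' hsub hbot htop => ?_⟩
    rw [hV, hW, one_mul, one_mul]
    rcases eq_or_ne V' ⊥ with hV' | hV'
    · have hW' : W' ≠ ⊥ := fun h => hbot ⟨hV', h⟩
      have := Submodule.one_le_finrank_iff.mpr hW'
      rw [hV', finrank_bot]; omega
    · have hVt : V' = ⊤ := Submodule.eq_top_of_finrank_eq (le_antisymm (Submodule.finrank_le _) (by
        have := Submodule.one_le_finrank_iff.mpr hV'; omega))
      obtain ⟨j, hj⟩ : ∃ j, f j ≠ 0 := not_forall.mp fun h => hf (funext h)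
      have hW' : W' ≠ ⊥ := fun h => hj <| LinearMap.ext fun v => by
        simpa [h] using (hsub j ⟨v, hVt ▸ trivial, rfl⟩ : f j v ∈ W')
      exact absurd ⟨hVt, Submodule.eq_top_of_finrank_eq (le_antisymm (Submodule.finrank_le _) (by
        have := Submodule.one_le_finrank_iff.mpr hW'; omega))⟩ htop
  have h2 : IsSemistable f → f ≠ 0 := by
    rintro hf rfl
    have := hf.2 ⊤ ⊥ (fun j => by rintro _ ⟨x, -, rfl⟩; simp)
      (fun h => by have := congrArg (fun S : Submodule K V => finrank K S) h.1; simp [hV] at this)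
      (fun h => by have := congrArg (fun S : Submodule K W => finrank K S) h.2; simp [hW] at this)
    simp [hV, hW] at this
  exact ⟨⟨h2, fun h => ⟨(h1 h).1, fun V' W' a b c => ((h1 h).2 V' W' a b c).le⟩⟩,
    ⟨fun h => h2 ⟨h.1, fun V' W' a b c => (h.2 V' W' a b c).le⟩, h1⟩⟩

theorem not_stable_two [IsAlgClosed K] (f : Fin 2 → (V →ₗ[K] W)) (k : ℕ) (hk : 2 ≤ k)
    (hV : finrank K V = k) (hW : finrank K W = k) : ¬ IsStable f := by
  intro hf
  haveI : Nontrivial V := Module.finrank_pos_iff.mp (hV ▸ (by omega : 0 < k))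
  obtain ⟨v, hv, u, hu⟩ : ∃ v : V, v ≠ 0 ∧ ∃ u : W, ∀ j, f j v ∈ K ∙ u := by
    by_cases hinj : Function.Injective (f 0)
    · let e := LinearEquiv.ofBijective (f 0)
        ⟨hinj, (LinearMap.injective_iff_surjective_of_finrank_eq_finrank (hV.trans hW.symm)).mp hinj⟩
      obtain ⟨c, hc⟩ := Module.End.exists_eigenvalue (e.symm.toLinearMap ∘ₗ f 1)
      obtain ⟨v, hv⟩ := hc.exists_hasEigenvector
      refine ⟨v, hv.2, f 0 v, fun j => ?_⟩
      fin_cases j
      · exact mem_span_singleton_self _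
      · refine mem_span_singleton.mpr ⟨c, ?_⟩
        have h := congrArg e hv.apply_eq_smul
        simp only [LinearMap.comp_apply, LinearEquiv.coe_coe, LinearEquiv.apply_symm_apply, map_smul] at h
        exact h.symm
    · obtain ⟨v, hv, hv0⟩ : ∃ v : V, f 0 v = 0 ∧ v ≠ 0 := by
        rw [injective_iff_map_eq_zero] at hinj; push Not at hinj; exact hinj
      refine ⟨v, hv0, f 1 v, fun j => ?_⟩
      fin_cases j
      · simp [hv]
      · exact mem_span_singleton_self _
  have hv1 : finrank K (K ∙ v) = 1 := finrank_span_singleton hv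
  have h2 := hf.2 (K ∙ v) (K ∙ u)
    (fun j => by rw [Submodule.map_span, Set.image_singleton, span_singleton_le_iff_mem]; exact hu j)
    (fun h => by rw [h.1, finrank_bot] at hv1; omega)
    (fun h => by rw [h.1, finrank_top] at hv1; omega)
  have hu1 : finrank K (K ∙ u) ≤ 1 := (finrank_span_le_card ({u} : Set W)).trans (by simp)
  rw [hv1, hV, hW, mul_one] at h2
  have := Nat.mul_le_mul_left k hu1
  omega

theorem bijective_comb_of_ss (f : Fin n → (V →ₗ[K] W)) (hV : finrank K V = 2) (hW : finrank K W = 2)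
    (hf : IsSemistable f) : ∃ z : Fin n → K, Function.Bijective ((∑ j, z j • f j : V →ₗ[K] W) : V → W) := by
  classical
  by_contra hcon
  push Not at hcon
  have hdim : finrank K V = finrank K W := hV.trans hW.symm
  have hsing : ∀ z : Fin n → K, ¬ Function.Injective ((∑ j, z j • f j : V →ₗ[K] W) : V → W) := fun z hz =>
    hcon z ⟨hz, (LinearMap.injective_iff_surjective_of_finrank_eq_finrank hdim).mp hz⟩
  have hone : ∀ j, f j ≠ 0 → finrank K (LinearMap.range (f j)) = 1 ∧ finrank K (LinearMap.ker (f j)) = 1 := by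
    intro j hj
    have h1 := LinearMap.finrank_range_add_finrank_ker (f j)
    have h2 : 1 ≤ finrank K (LinearMap.range (f j)) := Submodule.one_le_finrank_iff.mpr fun h => hj (LinearMap.range_eq_bot.mp h)
    have h3 : 1 ≤ finrank K (LinearMap.ker (f j)) := Submodule.one_le_finrank_iff.mpr fun h => hsing (Pi.single j 1) (by
      simpa [Pi.single_apply, ite_smul] using LinearMap.ker_eq_bot.mp h)
    omega
  have hinfV : ∀ A B : Submodule K V, finrank K A = 1 → finrank K B = 1 → A ≠ B → A ⊓ B = ⊥ := fun A B hA hB hne => by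
    by_contra h
    have h1 := Submodule.one_le_finrank_iff.mpr h
    have hA' : A ⊓ B = A := Submodule.eq_of_le_of_finrank_le inf_le_left (by omega)
    have hB' : A ⊓ B = B := Submodule.eq_of_le_of_finrank_le inf_le_right (by omega)
    exact hne (hA'.symm.trans hB')
  have hinfW : ∀ A B : Submodule K W, finrank K A = 1 → finrank K B = 1 → A ≠ B → A ⊓ B = ⊥ := fun A B hA hB hne => by
    by_contra h
    have h1 := Submodule.one_le_finrank_iff.mpr h
    have hA' : A ⊓ B = A := Submodule.eq_of_le_of_finrank_le inf_le_left (by omega)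
    have hB' : A ⊓ B = B := Submodule.eq_of_le_of_finrank_le inf_le_right (by omega)
    exact hne (hA'.symm.trans hB')
  have hpair : ∀ i j, f i ≠ 0 → f j ≠ 0 →
      LinearMap.range (f i) = LinearMap.range (f j) ∨ LinearMap.ker (f i) = LinearMap.ker (f j) := by
    intro i j hi hj
    by_contra h
    push Not at h
    have hij : i ≠ j := fun h0 => h.1 (by rw [h0])
    refine hsing (Pi.single i 1 + Pi.single j 1) ?_
    rw [injective_iff_map_eq_zero]
    intro x hx
    have hx' : f i x + f j x = 0 := by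
      simpa [add_smul, Finset.sum_add_distrib, Pi.single_apply, ite_smul] using hx
    have hr : f i x ∈ LinearMap.range (f i) ⊓ LinearMap.range (f j) :=
      ⟨⟨x, rfl⟩, ⟨-x, by rw [map_neg]; exact (eq_neg_of_add_eq_zero_left hx').symm⟩⟩
    rw [hinfW _ _ (hone i hi).1 (hone j hj).1 h.1, Submodule.mem_bot] at hr
    have hk : x ∈ LinearMap.ker (f i) ⊓ LinearMap.ker (f j) := ⟨hr, by simpa [hr] using hx'⟩
    rwa [hinfV _ _ (hone i hi).2 (hone j hj).2 h.2, Submodule.mem_bot] at hk
  have hkill : ∀ (P : Submodule K V) (Q : Submodule K W), IsSubrep f P Q →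
      (finrank K P = 1 ∧ finrank K Q = 0 ∨ finrank K P = 2 ∧ finrank K Q ≤ 1) → False := by
    intro P Q hs hd
    have h2 := hf.2 P Q hs (fun h => by rw [h.1, finrank_bot] at hd; omega)
      (fun h => by rw [h.2, finrank_top, hW] at hd; omega)
    rw [hV, hW] at h2
    omega
  by_cases hall : ∀ j, f j = 0
  · exact hkill ⊤ ⊥ (fun j => by rintro _ ⟨x, -, rfl⟩; simp [hall j]) (Or.inr ⟨by rw [finrank_top, hV], by simp⟩)
  push Not at hall
  obtain ⟨a, ha⟩ := hall
  by_cases hR : ∀ j, f j ≠ 0 → LinearMap.range (f j) = LinearMap.range (f a)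
  · refine hkill ⊤ (LinearMap.range (f a)) (fun j => ?_) (Or.inr ⟨by rw [finrank_top, hV], (hone a ha).1.le⟩)
    rintro _ ⟨x, -, rfl⟩
    by_cases hj : f j = 0
    · simp [hj]
    · exact hR j hj ▸ ⟨x, rfl⟩
  push Not at hR
  obtain ⟨b, hb, hab⟩ := hR
  have hkab : LinearMap.ker (f b) = LinearMap.ker (f a) := (hpair b a hb ha).resolve_left hab
  refine hkill (LinearMap.ker (f a)) ⊥ (fun j => ?_) (Or.inl ⟨(hone a ha).2, finrank_bot K W⟩)
  rintro _ ⟨x, hx, rfl⟩
  rw [Submodule.mem_bot]
  by_cases hj : f j = 0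
  · simp [hj]
  rcases hpair j a hj ha with hr | hk
  · rcases hpair j b hj hb with hr' | hk
    · exact absurd (hr'.symm.trans hr) hab
    · exact LinearMap.mem_ker.mp (hk.symm ▸ hkab.symm ▸ hx)
  · exact LinearMap.mem_ker.mp (hk.symm ▸ hx)

theorem ss_of_bijective (f : Fin n → (V →ₗ[K] W)) (k : ℕ) (hk : 1 ≤ k) (hV : finrank K V = k) (hW : finrank K W = k)
    (z : Fin n → K) (hz : Function.Bijective ((∑ j, z j • f j : V →ₗ[K] W) : V → W)) : IsSemistable f := by
  refine ⟨by omega, fun V' W' hsub _ _ => ?_⟩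
  rw [hV, hW]
  refine Nat.mul_le_mul_left k ?_
  let φ : V' →ₗ[K] W' := ((∑ j, z j • f j : V →ₗ[K] W) ∘ₗ V'.subtype).codRestrict W' fun v => by
    simp only [LinearMap.comp_apply, LinearMap.sum_apply, LinearMap.smul_apply]
    exact Submodule.sum_mem _ fun j _ => W'.smul_mem _ (hsub j ⟨_, v.2, rfl⟩)
  exact LinearMap.finrank_le_finrank_of_injective (f := φ) fun v v' h => Subtype.ext (hz.1 (congrArg Subtype.val h))

theorem dual_iff (f : Fin n → (V →ₗ[K] W)) :
    (IsSemistable f ↔ IsSemistable (fun j => (f j).dualMap)) ∧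
    (IsStable f ↔ IsStable (fun j => (f j).dualMap)) := by
  have hfwd : ∀ (P : Submodule K (Dual K W)) (Q : Submodule K (Dual K V)), IsSubrep (fun j => (f j).dualMap) P Q →
      ¬ (P = ⊥ ∧ Q = ⊥) → ¬ (P = ⊤ ∧ Q = ⊤) → ∃ V' W', IsSubrep f V' W' ∧ ¬ (V' = ⊥ ∧ W' = ⊥) ∧ ¬ (V' = ⊤ ∧ W' = ⊤) ∧
        finrank K Q + finrank K V' = finrank K V ∧ finrank K P + finrank K W' = finrank K W := by
    intro P Q hs hb ht
    have e1 := Subspace.finrank_add_finrank_dualCoannihilator_eq Q
    have e2 := Subspace.finrank_add_finrank_dualCoannihilator_eq P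
    refine ⟨Q.dualCoannihilator, P.dualCoannihilator, fun j => ?_, fun h => ht ?_, fun h => hb ?_, e1, e2⟩
    · rintro _ ⟨x, hx, rfl⟩
      rw [Submodule.mem_dualCoannihilator]
      intro φ hφ
      exact (Submodule.mem_dualCoannihilator _).mp hx _ (hs j ⟨φ, hφ, rfl⟩)
    · rw [h.1, finrank_bot] at e1; rw [h.2, finrank_bot] at e2
      exact ⟨Submodule.eq_top_of_finrank_eq (by rw [Subspace.dual_finrank_eq]; omega),
        Submodule.eq_top_of_finrank_eq (by rw [Subspace.dual_finrank_eq]; omega)⟩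
    · rw [h.1, finrank_top] at e1; rw [h.2, finrank_top] at e2
      exact ⟨Submodule.finrank_eq_zero.mp (by omega), Submodule.finrank_eq_zero.mp (by omega)⟩
  have hbwd : ∀ (V' : Submodule K V) (W' : Submodule K W), IsSubrep f V' W' →
      ¬ (V' = ⊥ ∧ W' = ⊥) → ¬ (V' = ⊤ ∧ W' = ⊤) → ∃ P Q, IsSubrep (fun j => (f j).dualMap) P Q ∧
        ¬ (P = ⊥ ∧ Q = ⊥) ∧ ¬ (P = ⊤ ∧ Q = ⊤) ∧
        finrank K Q + finrank K V' = finrank K V ∧ finrank K P + finrank K W' = finrank K W := by
    intro V' W' hs hb ht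
    have e1 := Subspace.finrank_add_finrank_dualAnnihilator_eq V'
    have e2 := Subspace.finrank_add_finrank_dualAnnihilator_eq W'
    refine ⟨W'.dualAnnihilator, V'.dualAnnihilator, fun j => ?_, fun h => ht ?_, fun h => hb ?_, by omega, by omega⟩
    · rintro _ ⟨φ, hφ, rfl⟩
      rw [Submodule.mem_dualAnnihilator]
      intro x hx
      exact (Submodule.mem_dualAnnihilator _).mp hφ _ (hs j ⟨x, hx, rfl⟩)
    · rw [h.1, finrank_bot] at e2; rw [h.2, finrank_bot] at e1
      exact ⟨Submodule.eq_top_of_finrank_eq (by omega), Submodule.eq_top_of_finrank_eq (by omega)⟩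
    · rw [h.1, finrank_top, Subspace.dual_finrank_eq] at e2; rw [h.2, finrank_top, Subspace.dual_finrank_eq] at e1
      exact ⟨Submodule.finrank_eq_zero.mp (by omega), Submodule.finrank_eq_zero.mp (by omega)⟩
  constructor
  · constructor
    · refine fun hf => ⟨by have := hf.1; simp only [Subspace.dual_finrank_eq]; omega, fun P Q hs hb ht => ?_⟩
      obtain ⟨V', W', hs', hb', ht', e1, e2⟩ := hfwd P Q hs hb ht
      have := hf.2 V' W' hs' hb' ht'
      simp only [Subspace.dual_finrank_eq]
      nlinarith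
    · refine fun hf => ⟨by have := hf.1; simp only [Subspace.dual_finrank_eq] at this; omega, fun V' W' hs hb ht => ?_⟩
      obtain ⟨P, Q, hs', hb', ht', e1, e2⟩ := hbwd V' W' hs hb ht
      have := hf.2 P Q hs' hb' ht'
      simp only [Subspace.dual_finrank_eq] at this
      nlinarith
  · constructor
    · refine fun hf => ⟨by have := hf.1; simp only [Subspace.dual_finrank_eq]; omega, fun P Q hs hb ht => ?_⟩
      obtain ⟨V', W', hs', hb', ht', e1, e2⟩ := hfwd P Q hs hb ht
      have := hf.2 V' W' hs' hb' ht'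
      simp only [Subspace.dual_finrank_eq]
      nlinarith
    · refine fun hf => ⟨by have := hf.1; simp only [Subspace.dual_finrank_eq] at this; omega, fun V' W' hs hb ht => ?_⟩
      obtain ⟨P, Q, hs', hb', ht', e1, e2⟩ := hbwd V' W' hs hb ht
      have := hf.2 P Q hs' hb' ht'
      simp only [Subspace.dual_finrank_eq] at this
      nlinarith

end Groth.Agent.Kron8
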